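import Cfsg.Agent.H935.OreO8.Gen
import Cfsg.Agent.H201.O8.Cover
import Cfsg.Agent.CoOneNWC.OmFacts
import Cfsg.Agent.StdO8.Gen

/-!
# `Ω₈⁺(2)`: every non-trivial element is a commutator of a generating pair (helper935, helper201)

* `good_om`: for `l ≠ 1` in `Om` there are `a`, `b` with `l = a b a⁻¹ b⁻¹` and `⟨a, b⟩ = Om`;
* `oreO8`: the same for the commutator subgroup `Om8` of the isometry group of the hyperbolic form;
* `good_of_equiv`: the same for every group isomorphic to `PΩ₈⁺(2)` over any field with two elements.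
-/

set_option autoImplicit false

namespace Cfsg.Agent.H935.OreO8

open Cfsg.Agent.StdO8.Model Cfsg.Agent.StdO8.Code Cfsg.Agent.StdO8.Aut
open Cfsg.Agent.H612.Ore (col)
open Cfsg.Agent.H201.O8 (act8 reps cover)

theorem rep_cols {g : O8} {c : ℕ} (h : act8.Rep g c) {i : ℕ} (hi : i < 8) :
    (g : V ≃ₗ[ZMod 2] V) (dec (2 ^ i)) = dec (col 8 c i) := by
  have h1 := congrArg dec (h i hi)
  rwa [Cfsg.Agent.H201.O8.act8_ap, Cfsg.Agent.H201.O8.dec_cd] at h1

theorem codes_eq : (List.range 39).all (fun i => (data.map Dat.c).getD i 0 == reps.getD i 1) = true := by decide +kernel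

theorem reps_len : reps.length = 67 := by decide +kernel

theorem data_len : data.length = 39 := by decide +kernel

theorem rep39 : (List.range 8).all (fun i => col 8 (reps.getD 39 0) i == 2 ^ i) = true := by decide +kernel

/-! ### The classes outside `Om` -/

/-- nonsingular vector and word: the representative is the word times the reflection -/
def odds : List (ℕ × List (ℕ × ℕ)) :=
  [(17, []), 
  (25, [(8, 21)]), 
  (89, [(72, 157), (204, 29)]), 
  (21, [(157, 89), (93, 149)]), 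
  (200, [(157, 17)]), 
  (198, [(6, 8), (219, 17)]), 
  (202, [(157, 17), (206, 68)]), 
  (136, [(159, 17), (66, 138)]), 
  (142, [(164, 98), (64, 155), (243, 81)]), 
  (145, [(74, 134), (115, 128), (66, 155)]), 
  (17, [(64, 138), (204, 100)]), 
  (17, [(2, 16)]), 
  (27, [(3, 9), (8, 20)]), 
  (19, [(2, 141), (8, 68), (14, 196)]), 
  (84, [(219, 76), (13, 148), (75, 132)]), 
  (156, [(217, 84), (157, 71)]), 
  (17, [(220, 70), (22, 142)]), 
  (17, [(2, 84)]), 
  (23, [(18, 97), (20, 99)]), 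
  (137, [(96, 23), (252, 113)]), 
  (168, [(189, 17), (67, 174), (160, 68)]), 
  (137, [(3, 64), (96, 159), (52, 81)]), 
  (238, [(249, 84), (63, 203), (30, 131)]), 
  (232, [(175, 19), (48, 64), (2, 220)]), 
  (228, [(90, 49), (144, 68), (15, 51)]), 
  (142, [(2, 80), (12, 196), (183, 17)]), 
  (21, [(28, 204), (234, 127), (133, 107)])]

theorem odds_chk : (List.range 27).all (fun i =>
    qn (odds.getD i (0, [])).1 && (odds.getD i (0, [])).2.all ok &&
      (List.range 8).all fun j => col 8 (reps.getD (40 + i) 0) j ==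
        ev (odds.getD i (0, [])).2 (2 ^ j ^^^ (if Bn (odds.getD i (0, [])).1 (2 ^ j) then (odds.getD i (0, [])).1 else 0))) = true := by
  decide +kernel

theorem odd_notMem {i : ℕ} (h1 : 40 ≤ i) (h2 : i < 67) {x : O8} (hx : act8.Rep x (reps.getD i 0)) :
    (x : V ≃ₗ[ZMod 2] V) ∉ Om := by
  intro hm
  obtain ⟨k, rfl⟩ := Nat.exists_eq_add_of_le h1
  have h3 := List.all_eq_true.1 odds_chk k (List.mem_range.2 (by omega))
  generalize odds.getD k (0, []) = p at h3
  rw [Bool.and_eq_true, Bool.and_eq_true] at h3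
  obtain ⟨⟨hq, hw⟩, hc⟩ := h3
  have hq' : q (dec p.1) ≠ 0 := by
    rw [q_dec, hq]; decide
  refine Cfsg.Agent.StdO8.Gen.refl_notMem (dec p.1) hq' ?_
  have e : Cfsg.Agent.LieClassical.OrthCore.refl q (dec p.1) hq' = ((word p.2 : Om) : V ≃ₗ[ZMod 2] V)⁻¹ * (x : V ≃ₗ[ZMod 2] V) := by
    rw [eq_inv_mul_iff_mul_eq]
    apply lin_ext
    intro b hb
    obtain ⟨j, hj, rfl⟩ := Cfsg.Agent.H201.O8.mem_basis hb
    show ((word p.2 : Om) : V ≃ₗ[ZMod 2] V) (Cfsg.Agent.LieClassical.OrthCore.refl q (dec p.1) hq' (dec (2 ^ j))) = _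
    rw [Cfsg.Agent.StdO8.Gen.refl_dec, word_dec hw, rep_cols hx hj, eq_of_beq (List.all_eq_true.1 hc j (List.mem_range.2 hj))]
  rw [e]
  exact mul_mem (inv_mem (word p.2).2) hm

/-! ### The theorem -/

theorem good_om (l : Om) (hl : l ≠ 1) : Good l := by
  obtain ⟨r, hr, h, x, hx, e⟩ := cover ⟨(l : V ≃ₗ[ZMod 2] V), Om_le l.2⟩
  obtain ⟨i, hi, hri⟩ := List.mem_iff_getElem.1 hr
  have hget : ∀ d, reps.getD i d = r := fun d => by rw [List.getD_eq_getElem _ _ hi, hri]
  rw [reps_len] at hi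
  have e1 : (x : V ≃ₗ[ZMod 2] V) = (h : V ≃ₗ[ZMod 2] V)⁻¹ * (l : V ≃ₗ[ZMod 2] V) * (h : V ≃ₗ[ZMod 2] V) := by
    have e2 := congrArg (Subtype.val) e
    have e3 : (l : V ≃ₗ[ZMod 2] V) = (h : V ≃ₗ[ZMod 2] V) * (x : V ≃ₗ[ZMod 2] V) * (h : V ≃ₗ[ZMod 2] V)⁻¹ := e2
    rw [e3]
    group
  have hxO : (x : V ≃ₗ[ZMod 2] V) ∈ Om := by
    rw [e1]
    have := (cj h⁻¹ l).2
    rw [cj_coe] at this
    simpa using this
  have e4 : l = cj h ⟨x, hxO⟩ := by
    apply Subtype.ext
    rw [cj_coe, e1]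
    group
  rcases lt_or_ge i 39 with h1 | h1
  · rw [e4]
    apply Good.conj
    have h2 : (data.map Dat.c).getD i 0 = r := by
      rw [eq_of_beq (List.all_eq_true.1 codes_eq i (List.mem_range.2 h1)), hget]
    have h3 : i < data.length := by rw [data_len]; exact h1
    rw [List.getD_eq_getElem _ _ (by rw [List.length_map]; exact h3), List.getElem_map] at h2
    apply good_of_code (d := data[i]) (List.getElem_mem h3)
    intro j hj
    rw [h2]
    exact rep_cols hx hj
  · rcases eq_or_lt_of_le h1 with h1 | h1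
    · exfalso
      apply hl
      subst h1
      have e5 : (x : V ≃ₗ[ZMod 2] V) = 1 := by
        apply lin_ext
        intro b hb
        obtain ⟨j, hj, rfl⟩ := Cfsg.Agent.H201.O8.mem_basis hb
        rw [rep_cols hx hj, ← hget 0, eq_of_beq (List.all_eq_true.1 rep39 j (List.mem_range.2 hj))]
        rfl
      rw [e4]
      have e6 : (⟨x, hxO⟩ : Om) = 1 := Subtype.ext e5
      rw [e6, map_one]
    · rw [← hget 0] at hx
      exact absurd hxO (odd_notMem h1 hi hx)

theorem good_of_om {G : Type*} [Group G] (e : Om ≃* G) {l : G} (hl : l ≠ 1) : Good l := by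
  have h := (good_om (e.symm l) (fun h => hl (by rw [← e.apply_symm_apply l, h, map_one]))).map e
  rwa [e.apply_symm_apply] at h

/-- every group isomorphic to `PΩ₈⁺(2)` -/
theorem good_of_equiv {F : Type*} [Field F] [Fintype F] (hF : Fintype.card F = 2) {G : Type*} [Group G]
    (h : Nonempty (G ≃* Cfsg.POmega F (Cfsg.quadFormPlus 4 F))) {l : G} (hl : l ≠ 1) : Good l := by
  obtain ⟨e⟩ := h
  obtain ⟨e'⟩ := exists_equiv hF
  exact good_of_om (e.trans e').symm hl

/-- every non-trivial element of `Om8` is a commutator of a generating pair -/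
theorem oreO8 (l : Cfsg.Agent.CoOneNWC.OmFacts.Om8) (hl : l ≠ 1) : ∃ a b : Cfsg.Agent.CoOneNWC.OmFacts.Om8,
    a * b * a⁻¹ * b⁻¹ = l ∧ Subgroup.closure {a, b} = ⊤ := by
  have e3 : Cfsg.Agent.CoOneNWC.OmFacts.Om8 ≃* Om := by
    show Cfsg.Omega (ZMod 2) (Cfsg.quadFormPlus 4 (ZMod 2)) ≃* Om
    rw [← Cfsg.Agent.LieClassical.QuadForms.coe_plusForm]
    exact Cfsg.Agent.AutOrth.Main.oe good
  obtain ⟨a, b, h1, h2⟩ := good_of_om e3.symm hl
  exact ⟨a, b, h1.symm, h2⟩

end Cfsg.Agent.H935.OreO8
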