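import Cfsg.Agent.StdO8.Tri
import Cfsg.Agent.StdO8.Aut
import Cfsg.Agent.H935.OreO8.Data

/-!
# `Ω₈⁺(2)`: thirty-nine commutators of generating pairs (helper935)

* `five`: a subgroup of `Om` with five root elements (the extended diagram) is everything;
* `good_data`: the commutators of the table are commutators of generating pairs.
-/

set_option autoImplicit false

namespace Cfsg.Agent.H935.OreO8

open Cfsg.Agent.StdO8.Model Cfsg.Agent.StdO8.Code Cfsg.Agent.StdO8.Aut
open Cfsg.Agent.StdO8.DataOf (xm)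
open Cfsg.Agent.StdO8.Bas (bv wt)

/-! ### Generation -/

theorem bv_dec : ∀ i : Fin 8, bv i = dec (2 ^ i.1) := by decide +kernel

theorem xm_wt {i j : Fin 8} (h : Cfsg.Agent.StdO8.Bas.ok i j) : xm (wt i + wt j) = gen (2 ^ i.1, 2 ^ j.1) := by
  apply Subtype.ext
  show Cfsg.Agent.StdO8.Bas.xO (wt i + wt j) = X (dec _) (dec _)
  rw [Cfsg.Agent.StdO8.Bas.xO_wt h, Cfsg.Agent.StdO8.Bas.xb, bv_dec, bv_dec]

/-- the derivations `p = [r, s]` -/
def chain : List ((ℕ × ℕ) × (ℕ × ℕ) × (ℕ × ℕ)) :=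
  [((1, 64), (1, 32), (2, 64)), ((2, 128), (2, 64), (4, 128)), ((2, 8), (2, 64), (4, 8)), ((16, 64), (2, 64), (16, 32)),
   ((1, 128), (4, 128), (1, 64)), ((2, 4), (4, 128), (2, 8)), ((16, 128), (4, 128), (16, 64)), ((1, 8), (4, 8), (1, 64)),
   ((8, 16), (4, 8), (16, 64)), ((1, 4), (4, 8), (1, 128)), ((4, 16), (4, 8), (16, 128)), ((32, 64), (16, 32), (1, 64)),
   ((32, 128), (16, 32), (1, 128)), ((8, 32), (16, 32), (1, 8)), ((4, 32), (16, 32), (1, 4)), ((1, 2), (2, 64), (1, 4)),
   ((2, 16), (2, 64), (4, 16)), ((64, 128), (2, 64), (32, 128)), ((8, 64), (2, 64), (8, 32))]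

/-- the five root elements -/
def tgt : List (ℕ × ℕ) := [(1, 32), (2, 64), (4, 128), (4, 8), (16, 32)]

/-- all derived root elements -/
def derived : List ((ℕ × ℕ) × (ℕ × ℕ) × (ℕ × ℕ)) → List (ℕ × ℕ) → List (ℕ × ℕ)
  | [], s => s
  | t :: l, s => derived l (if s.contains t.2.1 && s.contains t.2.2 && same [t.1] [t.2.1, t.2.2, t.2.1, t.2.2] then
      t.1 :: s else s)

theorem derived_mem {K : Subgroup Om} : ∀ (l : List ((ℕ × ℕ) × (ℕ × ℕ) × (ℕ × ℕ))) (s : List (ℕ × ℕ)),
    (∀ p ∈ s, gen p ∈ K) → ∀ p ∈ derived l s, gen p ∈ K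
  | [], s, h => h
  | t :: l, s, h => by
    intro p hp
    rw [derived] at hp
    refine derived_mem l _ ?_ p hp
    intro r hr
    split_ifs at hr with hc
    · rcases List.mem_cons.1 hr with rfl | hr
      · rw [Bool.and_eq_true, Bool.and_eq_true, List.contains_iff_mem, List.contains_iff_mem] at hc
        have h1 := h _ hc.1.1
        have h2 := h _ hc.1.2
        have h3 := word_eq hc.2
        rw [word_single, word_cons, word_cons, word_cons, word_single] at h3
        rw [h3]
        exact mul_mem h1 (mul_mem h2 (mul_mem h1 h2))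
      · exact h _ hr
    · exact h _ hr

theorem five {K : Subgroup Om} (h : ∀ p ∈ tgt, gen p ∈ K) : K = ⊤ := by
  have h1 := derived_mem chain tgt h
  rw [eq_top_iff, ← Cfsg.Agent.StdO8.Tri.gen, Subgroup.closure_le]
  rintro m ⟨s, hs, rfl⟩
  obtain ⟨h2, h3⟩ := Cfsg.Agent.StdO8.Bas.wt_hd s hs
  rw [← h2, xm_wt h3]
  generalize (Cfsg.Agent.StdO8.Bas.hd s).1 = i at h3 ⊢
  generalize (Cfsg.Agent.StdO8.Bas.hd s).2 = j at h3 ⊢
  have key : ∀ i j : Fin 8, Cfsg.Agent.StdO8.Bas.ok i j →
      (2 ^ i.1, 2 ^ j.1) ∈ derived chain tgt ∨ ((2 ^ j.1, 2 ^ i.1) ∈ derived chain tgt ∧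
        same [(2 ^ i.1, 2 ^ j.1)] [(2 ^ j.1, 2 ^ i.1)] = true) := by decide +kernel
  rcases key i j h3 with h4 | ⟨h4, h5⟩
  · exact h1 _ h4
  · have h6 := word_eq h5
    rw [word_single, word_single] at h6
    show gen _ ∈ K
    rw [h6]
    exact h1 _ h4

/-! ### Words in two elements -/

/-- the letters of a word -/
def lt (p : ℕ × ℕ) : List Bool := (List.range p.1).map fun i => p.2.testBit i

/-- a word in two elements -/
noncomputable def wrd (a b : Om) : List Bool → Om
  | [] => 1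
  | c :: l => (bif c then a else b) * wrd a b l

/-- its evaluation -/
def evw (a b : List (ℕ × ℕ)) : List Bool → ℕ → ℕ
  | [], v => v
  | c :: l, v => ev (bif c then a else b) (evw a b l v)

theorem wrd_mem {K : Subgroup Om} {a b : Om} (ha : a ∈ K) (hb : b ∈ K) : ∀ l, wrd a b l ∈ K
  | [] => one_mem _
  | c :: l => by
    rw [wrd]
    refine mul_mem ?_ (wrd_mem ha hb l)
    cases c
    · exact hb
    · exact ha

theorem wrd_dec {a b : List (ℕ × ℕ)} (ha : a.all ok = true) (hb : b.all ok = true) : ∀ (l : List Bool) (v : ℕ),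
    ((wrd (word a) (word b) l : Om) : V ≃ₗ[ZMod 2] V) (dec v) = dec (evw a b l v)
  | [], v => rfl
  | c :: l, v => by
    rw [wrd, evw]
    show (((bif c then word a else word b : Om)) : V ≃ₗ[ZMod 2] V) (((wrd (word a) (word b) l : Om) : V ≃ₗ[ZMod 2] V) (dec v)) = _
    rw [wrd_dec ha hb l]
    cases c
    · exact word_dec hb _
    · exact word_dec ha _

/-! ### Certificates -/

/-- repeated word -/
def rpt (l : List Bool) : ℕ → List Bool
  | 0 => []
  | k + 1 => l ++ rpt l k

/-- one target -/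
def chkT (d : Dat) (g : List Bool) (p : ℕ × ℕ) : Bool :=
  ok (evw d.a d.b g d.u, evw d.a d.b g d.v) && ok p &&
    basis.all fun x => xn (evw d.a d.b g d.u) (evw d.a d.b g d.v) x == xn p.1 p.2 x

/-- the checker -/
def chk (d : Dat) : Bool :=
  d.a.all ok && d.b.all ok && ok (d.u, d.v) &&
    (basis.all fun x => evw d.a d.b (rpt (lt d.w) d.k) x == xn d.u d.v x) &&
    (d.gs.length == 5) && (d.gs.zip tgt).all fun p => chkT d (lt p.1) p.2

theorem closure_eq_top {d : Dat} (h : chk d = true) : Subgroup.closure {word d.a, word d.b} = (⊤ : Subgroup Om) := by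
  rw [chk, Bool.and_eq_true, Bool.and_eq_true, Bool.and_eq_true, Bool.and_eq_true, Bool.and_eq_true] at h
  obtain ⟨⟨⟨⟨⟨ha, hb⟩, huv⟩, hw⟩, hl⟩, ht⟩ := h
  set K := Subgroup.closure {word d.a, word d.b} with hK
  have hmem : ∀ l, wrd (word d.a) (word d.b) l ∈ K :=
    wrd_mem (Subgroup.subset_closure (Or.inl rfl)) (Subgroup.subset_closure (Or.inr rfl))
  have h1 : gen (d.u, d.v) ∈ K := by
    have h2 : gen (d.u, d.v) = wrd (word d.a) (word d.b) (rpt (lt d.w) d.k) := by
      apply Subtype.ext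
      apply lin_ext
      intro x hx
      rw [wrd_dec ha hb]
      show X (dec d.u) (dec d.v) (dec x) = _
      rw [X_dec huv, ← eq_of_beq (List.all_eq_true.1 hw x hx)]
    rw [h2]
    exact hmem _
  apply five
  intro p hp
  have h3 : ∃ g, (g, p) ∈ d.gs.zip tgt := by
    obtain ⟨i, hi, e⟩ := List.mem_iff_getElem.1 hp
    have hi' : i < d.gs.length := by rw [eq_of_beq hl]; exact hi
    refine ⟨d.gs[i], ?_⟩
    rw [List.mem_iff_getElem]
    refine ⟨i, ?_, ?_⟩
    · rw [List.length_zip]; exact lt_min hi' hi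
    · rw [List.getElem_zip, e]
  obtain ⟨g, hg⟩ := h3
  have h4 := List.all_eq_true.1 ht _ hg
  simp only [chkT, Bool.and_eq_true] at h4
  obtain ⟨⟨h5, h6⟩, h7⟩ := h4
  set G := wrd (word d.a) (word d.b) (lt g) with hG
  have h8 : gen p = G * gen (d.u, d.v) * G⁻¹ := by
    apply Subtype.ext
    show X (dec p.1) (dec p.2) = (G : V ≃ₗ[ZMod 2] V) * X (dec d.u) (dec d.v) * (G : V ≃ₗ[ZMod 2] V)⁻¹
    rw [X_conj (Om_le G.2)]
    rw [hG, wrd_dec ha hb, wrd_dec ha hb]
    apply lin_ext
    intro x hx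
    have h6' : ok (p.1, p.2) = true := h6
    rw [X_dec h5, X_dec h6', eq_of_beq (List.all_eq_true.1 h7 x hx)]
  rw [h8]
  exact mul_mem (mul_mem (hmem _) h1) (inv_mem (hmem _))

theorem all_split {α : Type*} (f : α → Bool) (n : ℕ) (l : List α) (h1 : (l.take n).all f = true)
    (h2 : (l.drop n).all f = true) : l.all f = true := by
  rw [← List.take_append_drop n l, List.all_append, h1, h2]
  rfl

theorem chk_part0 : (data.take 8).all chk = true := by decide +kernel

theorem chk_part1 : ((data.drop 8).take 8).all chk = true := by decide +kernel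

theorem chk_part2 : (((data.drop 8).drop 8).take 8).all chk = true := by decide +kernel

theorem chk_part3 : ((((data.drop 8).drop 8).drop 8).take 8).all chk = true := by decide +kernel

theorem chk_part4 : ((((data.drop 8).drop 8).drop 8).drop 8).all chk = true := by decide +kernel

theorem chk_data : data.all chk = true :=
  all_split chk 8 data chk_part0 (all_split chk 8 _ chk_part1 (all_split chk 8 _ chk_part2
    (all_split chk 8 _ chk_part3 chk_part4)))

/-! ### The property -/

/-- a commutator of a generating pair -/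
def Good {G : Type*} [Group G] (l : G) : Prop :=
  ∃ a b : G, l = a * b * a⁻¹ * b⁻¹ ∧ Subgroup.closure {a, b} = (⊤ : Subgroup G)

theorem Good.map {G H : Type*} [Group G] [Group H] (e : G ≃* H) {l : G} (h : Good l) : Good (e l) := by
  obtain ⟨a, b, h1, h2⟩ := h
  refine ⟨e a, e b, ?_, ?_⟩
  · rw [h1, map_mul, map_mul, map_mul, map_inv, map_inv]
  · have h3 := congrArg (Subgroup.map e.toMonoidHom) h2
    rw [MonoidHom.map_closure, Subgroup.map_top_of_surjective _ e.surjective, Set.image_pair] at h3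
    exact h3

/-- the commutator -/
noncomputable def cm (d : Dat) : Om := word d.a * word d.b * (word d.a)⁻¹ * (word d.b)⁻¹

theorem good_data {d : Dat} (hd : d ∈ data) : Good (cm d) :=
  ⟨_, _, rfl, closure_eq_top (List.all_eq_true.1 chk_data d hd)⟩

/-- the word of the commutator -/
def cw (d : Dat) : List (ℕ × ℕ) := d.a ++ (d.b ++ (d.a.reverse ++ d.b.reverse))

theorem word_cw (d : Dat) : word (cw d) = cm d := by
  rw [cw, word_append, word_append, word_append, word_reverse, word_reverse, cm]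
  group

/-- the codes of the commutators -/
def chkC (d : Dat) : Bool :=
  (cw d).all ok && (List.range 8).all fun i => ev (cw d) (2 ^ i) == (d.c >>> (8 * i)) % 2 ^ 8

theorem chkC_data : data.all chkC = true := by decide +kernel

theorem cw_dec {d : Dat} (hd : d ∈ data) {i : ℕ} (hi : i < 8) :
    ((cm d : Om) : V ≃ₗ[ZMod 2] V) (dec (2 ^ i)) = dec ((d.c >>> (8 * i)) % 2 ^ 8) := by
  have h := List.all_eq_true.1 chkC_data d hd
  rw [chkC, Bool.and_eq_true] at h
  rw [← word_cw, word_dec h.1, eq_of_beq (List.all_eq_true.1 h.2 i (List.mem_range.2 hi))]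

/-- an isometry with one of the codes is good -/
theorem good_of_code {d : Dat} (hd : d ∈ data) {x : Om}
    (hx : ∀ i < 8, (x : V ≃ₗ[ZMod 2] V) (dec (2 ^ i)) = dec ((d.c >>> (8 * i)) % 2 ^ 8)) : Good x := by
  have h : x = cm d := by
    apply Subtype.ext
    apply lin_ext
    intro b hb
    have hb' : ∃ i < 8, b = 2 ^ i := by
      simp only [basis, List.mem_cons, List.not_mem_nil, or_false] at hb
      rcases hb with rfl | rfl | rfl | rfl | rfl | rfl | rfl | rfl
      exacts [⟨0, by norm_num, rfl⟩, ⟨1, by norm_num, rfl⟩, ⟨2, by norm_num, rfl⟩, ⟨3, by norm_num, rfl⟩,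
        ⟨4, by norm_num, rfl⟩, ⟨5, by norm_num, rfl⟩, ⟨6, by norm_num, rfl⟩, ⟨7, by norm_num, rfl⟩]
    obtain ⟨i, hi, rfl⟩ := hb'
    rw [hx i hi, cw_dec hd hi]
  rw [h]
  exact good_data hd

/-- conjugates by isometries -/
theorem Good.conj {x : Om} (h : Good x) (M : O8) : Good (cj M x) := h.map (cj M)

end Cfsg.Agent.H935.OreO8
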